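import Groth.Prelude.Def_Curve
import Groth.Agent.Lib.CohAmple24.Dim
import Groth.Agent.Lib.FlatClosure.Basic
import Groth.Agent.Lib.Unibranch.Points
import Groth.Agent.Lib.GenericSmooth.Basic
import Groth.Agent.Lib.K0Rank22.Basic
import Groth.Agent.Lib.Ref1.Extend
import Groth.Agent.Lib.FibreFlat.OpenScheme
import Groth.Agent.Lib.PicPull.FunctionField

/-! # Finite maps onto a regular irreducible scheme: flatness in codimension one and generic smoothness -/

set_option autoImplicit false
set_option maxHeartbeats 1000000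
set_option linter.all false
set_option backward.isDefEq.respectTransparency false
universe u

open CategoryTheory CategoryTheory.Limits AlgebraicGeometry TopologicalSpace IsLocalRing

namespace GrothLib.ConstSec25

/-- A continuous map with discrete fibres does not lower the dimension of a sober space. -/
theorem dim_le_of_discrete_fibres {A B : Type*} [TopologicalSpace A] [TopologicalSpace B] [QuasiSober A] [T0Space B]
    (f : A → B) (hf : Continuous f) (h : ∀ x y : A, x ⤳ y → f x = f y → x = y) :
    topologicalKrullDim A ≤ topologicalKrullDim B := by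
  let g : IrreducibleCloseds A → IrreducibleCloseds B := fun C =>
    { carrier := closure (f '' (C : Set A))
      isIrreducible' := (C.2.image f hf.continuousOn).closure
      isClosed' := isClosed_closure }
  refine Order.krullDim_le_of_strictMono g fun C D hCD => ?_
  have hle : g C ≤ g D := closure_mono (Set.image_mono hCD.le)
  refine lt_of_le_of_ne hle fun e => hCD.ne ?_
  have hc := C.2.isGenericPoint_genericPoint C.3
  have hd := D.2.isGenericPoint_genericPoint D.3
  have hc' := hc.image hf
  have hd' := hd.image hf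
  have e' : closure (f '' C.carrier) = closure (f '' D.carrier) := congrArg IrreducibleCloseds.carrier e
  have hfe : f C.2.genericPoint = f D.2.genericPoint := by
    rw [← e'] at hd'
    exact hc'.eq hd'
  have hs : D.2.genericPoint ⤳ C.2.genericPoint := hd.specializes (hCD.le hc.mem)
  have := h _ _ hs hfe.symm
  refine SetLike.coe_injective (show C.carrier = D.carrier from ?_)
  rw [← hc.def, ← hd.def, this]

/-- Flat over an integral scheme with reduced generic part implies reduced. -/
theorem isReduced_of_flat_dominant {Z C C' : Scheme.{u}} (g : Z ⟶ C) [Flat g] (j : C' ⟶ C) [QuasiCompact j]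
    [IsSchemeTheoreticallyDominant j] [IsReduced (pullback j g)] : IsReduced Z :=
  IsSchemeTheoreticallyDominant.isReduced (pullback.snd j g)

theorem eq_of_specializes_of_finite {X T : Scheme.{u}} (f : X ⟶ T) [IsFinite f] {x y : X} (h : x ⤳ y)
    (e : f x = f y) : x = y := by
  haveI := (f.isDiscrete_preimage_singleton (f y)).to_subtype
  have h' : (⟨x, e⟩ : f ⁻¹' {f y}) ⤳ ⟨y, rfl⟩ := (subtype_specializes_iff _ _).2 h
  exact congrArg Subtype.val h'.eq

variable {X T : Scheme.{u}} [IsIntegral T] [IsReduced X] (f : X ⟶ T)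

theorem ne_zero_comap {x : X} (hmax : ∀ ζ : X, (∀ z, z ⤳ ζ → z = ζ) → f ζ = genericPoint T)
    (P : Ideal (X.presheaf.stalk x)) (hP : P ∈ minimalPrimes (X.presheaf.stalk x))
    [IsDomain (T.presheaf.stalk (f x))] : P.comap (f.stalkMap x).hom = ⊥ := by
  haveI := hP.1.1
  let p : Spec (X.presheaf.stalk x) := ⟨P, inferInstance⟩
  have hζ : ∀ z, z ⤳ X.fromSpecStalk x p → z = X.fromSpecStalk x p := by
    intro z hz
    have hzx : z ⤳ x := hz.trans (by
      have : X.fromSpecStalk x p ∈ Set.range (X.fromSpecStalk x) := ⟨p, rfl⟩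
      rw [Scheme.range_fromSpecStalk] at this
      exact this)
    obtain ⟨q, rfl⟩ : z ∈ Set.range (X.fromSpecStalk x) := by
      rw [Scheme.range_fromSpecStalk]; exact hzx
    have hqp : q ⤳ p := (X.fromSpecStalk x).isEmbedding.isInducing.specializes_iff.1 hz
    refine congrArg _ (PrimeSpectrum.ext ?_)
    exact le_antisymm ((PrimeSpectrum.le_iff_specializes q p).2 hqp)
      (hP.2 ⟨q.isPrime, bot_le⟩ ((PrimeSpectrum.le_iff_specializes q p).2 hqp))
  have h1 := hmax _ hζ
  have h2 : f (X.fromSpecStalk x p) = T.fromSpecStalk (f x) (Spec.map (f.stalkMap x) p) := by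
    rw [← Scheme.Hom.comp_apply, ← Scheme.Hom.comp_apply, Scheme.SpecMap_stalkMap_fromSpecStalk]
  rw [h2] at h1
  let b : Spec (T.presheaf.stalk (f x)) := ⟨⊥, Ideal.isPrime_bot⟩
  have h3 : T.fromSpecStalk (f x) b = genericPoint T := by
    have hb : b ⤳ Spec.map (f.stalkMap x) p :=
      (PrimeSpectrum.le_iff_specializes b (Spec.map (f.stalkMap x) p)).1 bot_le
    have := hb.map (T.fromSpecStalk (f x)).continuous
    rw [h1] at this
    exact (((genericPoint_spec T).specializes trivial).antisymm this).eq.symm
  exact congrArg PrimeSpectrum.asIdeal ((T.fromSpecStalk (f x)).isEmbedding.injective (h1.trans h3.symm))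

/-- Flatness over points of codimension at most one. -/
theorem flat_stalkMap_of_dim_le_one [IsLocallyNoetherian T]
    (hmax : ∀ ζ : X, (∀ z, z ⤳ ζ → z = ζ) → f ζ = genericPoint T) (x : X)
    [IsRegularLocalRing (T.presheaf.stalk (f x))] (hd : ringKrullDim (T.presheaf.stalk (f x)) ≤ 1) :
    (f.stalkMap x).hom.Flat := by
  obtain ⟨_, hV⟩ := GrothLib.FlatClosure.valuationRing_of_regular hd
  haveI := hV
  haveI : _root_.IsReduced (X.presheaf.stalk x) := inferInstance
  algebraize [(f.stalkMap x).hom]
  show Module.Flat (T.presheaf.stalk (f x)) (X.presheaf.stalk x)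
  refine Module.Flat.flat_iff_torsion_eq_bot_of_isBezout.2 ((Submodule.eq_bot_iff _).2 fun m hm => ?_)
  obtain ⟨⟨a, ha⟩, ham⟩ := hm
  have ha0 : a ≠ 0 := nonZeroDivisors.ne_zero ha
  refine IsReduced.eq_zero m ?_
  rw [← mem_nilradical, nilradical_eq_sInf, Submodule.mem_sInf]
  intro P hP
  haveI : Ideal.IsPrime P := hP
  obtain ⟨Q, hQ, hQP⟩ := Ideal.exists_minimalPrimes_le (I := (⊥ : Ideal (X.presheaf.stalk x))) (J := P) bot_le
  refine hQP ?_
  haveI := hQ.1.1
  have : (f.stalkMap x).hom a * m ∈ Q := by
    have h0 : (f.stalkMap x).hom a * m = 0 := ham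
    rw [h0]; exact Q.zero_mem
  refine (Ideal.IsPrime.mem_or_mem inferInstance this).resolve_left fun h => ha0 ?_
  have := (ne_zero_comap f hmax Q hQ).le (Ideal.mem_comap.2 h)
  simpa using this

/-- Over the generic point the map is smooth in characteristic zero. -/
theorem mem_smoothLocus_of_maximal [LocallyOfFinitePresentation f] [NoetherianSpace X] [CharZero T.functionField]
    (ζ : X) (hζ : ∀ z, z ⤳ ζ → z = ζ) (hg : f ζ = genericPoint T) : ζ ∈ f.smoothLocus := by
  classical
  have hC : closure ({ζ} : Set X) ∈ irreducibleComponents X := by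
    refine ⟨isIrreducible_singleton.closure, fun D hD hle => ?_⟩
    have hgd := hD.isGenericPoint_genericPoint_closure
    have : hD.genericPoint ⤳ ζ := hgd.specializes (subset_closure (hle (subset_closure rfl)))
    rw [hζ _ this] at hgd
    exact fun y hy => hgd.def.ge (subset_closure hy)
  let F : Set X := Set.sUnion (irreducibleComponents X \ {closure ({ζ} : Set X)})
  have hF : IsClosed F := by
    show IsClosed (Set.sUnion (irreducibleComponents X \ {closure ({ζ} : Set X)}))
    rw [Set.sUnion_eq_biUnion]
    exact (NoetherianSpace.finite_irreducibleComponents.sdiff).isClosed_biUnion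
      fun W hW => isClosed_of_mem_irreducibleComponents W hW.1
  let U : X.Opens := ⟨Fᶜ, hF.isOpen_compl⟩
  have hmem : ζ ∈ U := by
    rintro ⟨W, ⟨hW, hne⟩, hzW⟩
    refine hne ?_
    have hsub := (isClosed_of_mem_irreducibleComponents W hW).closure_subset_iff.2 (Set.singleton_subset_iff.2 hzW)
    exact (hC.2 hW.1 hsub).antisymm hsub
  have hUsub : (U : Set X) ⊆ closure {ζ} := by
    intro y hy
    by_contra hyn
    refine hy ⟨irreducibleComponent y, ⟨irreducibleComponent_mem_irreducibleComponents y, ?_⟩, mem_irreducibleComponent⟩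
    intro e
    exact hyn ((Set.mem_singleton_iff.1 e) ▸ mem_irreducibleComponent)
  haveI : IrreducibleSpace (U : Scheme.{u}) := by
    refine isIrreducible_iff_irreducibleSpace.mp ?_
    refine ⟨⟨ζ, hmem⟩, fun A B hA hB ⟨a, ha, ha'⟩ ⟨b, hb, hb'⟩ => ⟨ζ, hmem, ?_, ?_⟩⟩
    · exact (specializes_iff_mem_closure.2 (hUsub ha)).mem_open hA ha'
    · exact (specializes_iff_mem_closure.2 (hUsub hb)).mem_open hB hb'
  haveI : IsIntegral (U : Scheme.{u}) := isIntegral_of_irreducibleSpace_of_isReduced _
  have hgen : U.ι (genericPoint (U : Scheme.{u})) = ζ := by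
    have h1 : genericPoint (U : Scheme.{u}) ⤳ ⟨ζ, hmem⟩ := (genericPoint_spec _).specializes trivial
    exact hζ _ (h1.map U.ι.continuous)
  have h := GrothLib.GenericSmooth.genericPoint_mem_smoothLocus (U.ι ≫ f)
    (by rw [Scheme.Hom.comp_apply, hgen, hg])
  rw [← Scheme.Hom.preimage_smoothLocus_eq, Scheme.Hom.mem_preimage, hgen] at h
  exact h

end GrothLib.ConstSec25
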