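import Groth.Agent.Lib.ConstSec25.Basic
import Groth.Agent.Lib.LinUniq27.Values
import Groth.Agent.Lib.CurveLocus.Basic
import Groth.Agent.Lib.LineFlag12.H0
import Groth.Agent.Lib.CurveMult.ProjSmooth
import Groth.Agent.Lib.Cube.AmpleCrit
import Groth.Agent.Lib.SerrePn27.Generic
import Groth.Agent.Lib.AlgMisc.GeomRegAt

/-! # A constant section with finite flat reduced preimage -/

set_option autoImplicit false
set_option maxHeartbeats 1000000
set_option linter.all false
set_option backward.isDefEq.respectTransparency false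
universe u

open CategoryTheory CategoryTheory.Limits AlgebraicGeometry TopologicalSpace IsLocalRing

namespace GrothLib.ConstSec25

/-- A base change that factors through an open of the target inherits the properties of the restriction. -/
theorem of_restrict (Q : MorphismProperty Scheme.{u}) [Q.IsStableUnderBaseChange] {X T A B : Scheme.{u}}
    {f : X ⟶ T} {a : A ⟶ X} {b : A ⟶ B} {s : B ⟶ T} (H : IsPullback a b f s) (U : T.Opens)
    (hs : ∀ x, s x ∈ U) (hf : Q (f ∣_ U)) : Q b := by
  let s' : B ⟶ (U : Scheme.{u}) := IsOpenImmersion.lift U.ι s (by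
    rintro _ ⟨c, rfl⟩
    rw [Scheme.Opens.range_ι]
    exact hs c)
  have hs' : s' ≫ U.ι = s := IsOpenImmersion.lift_fac _ _ _
  let R := (isPullback_morphismRestrict f U).flip
  let a' : A ⟶ (f ⁻¹ᵁ U : X.Opens) := R.lift a (b ≫ s') (by rw [Category.assoc, hs', H.w])
  have sq : IsPullback a' b (f ∣_ U) s' := by
    refine IsPullback.of_right ?_ (R.lift_snd _ _ _) R
    rw [R.lift_fst, hs']
    exact H
  exact Q.of_isPullback sq hf

theorem exists_constant_section (k : Type u) [Field k] [IsAlgClosed k] [CharZero k]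
    (N : ℕ) (C : Scheme.{u}) (g : C ⟶ Spec (CommRingCat.of k)) (hC : Curve.IsSmoothProperCurve k C g)
    (X : Scheme.{u}) (f : X ⟶ pullback (CohB1.ProjSpace.toSpec N k) g) [IsFinite f]
    [Flat (f ≫ pullback.snd (CohB1.ProjSpace.toSpec N k) g)]
    (hred : ∀ c : C, AlgebraicGeometry.IsReduced ((f ≫ pullback.snd (CohB1.ProjSpace.toSpec N k) g).fiber c))
    (hdim : ∀ c : C, ∀ Z ∈ irreducibleComponents (↥((f ≫ pullback.snd (CohB1.ProjSpace.toSpec N k) g).fiber c) : Type u),
      topologicalKrullDim (↥Z : Type u) = N) :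
    ∃ p : Spec (CommRingCat.of k) ⟶ CohB1.ProjSpace N k,
      p ≫ CohB1.ProjSpace.toSpec N k = 𝟙 (Spec (CommRingCat.of k)) ∧
      ∀ s : C ⟶ pullback (CohB1.ProjSpace.toSpec N k) g,
        s ≫ pullback.fst (CohB1.ProjSpace.toSpec N k) g = g ≫ p →
        s ≫ pullback.snd (CohB1.ProjSpace.toSpec N k) g = 𝟙 C →
        IsFinite (pullback.snd f s) ∧ Flat (pullback.snd f s) ∧
          AlgebraicGeometry.IsReduced (pullback f s) := by
  obtain ⟨hgp, hgs, hgi, hg1⟩ := hC
  haveI := hgp; haveI := hgs; haveI := hgi
  let t := CohB1.ProjSpace.toSpec N k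
  haveI : Smooth t := GrothLib.CurveMult.smooth_toSpec N k
  haveI : LocallyOfFiniteType t := inferInstance
  haveI : GeometricallyIntegral t := GrothLib.Cube.geometricallyIntegral_of_isIntegral t
  haveI : GeometricallyIntegral g := GrothLib.Cube.geometricallyIntegral_of_isIntegral g
  haveI : IsLocallyNoetherian C := LocallyOfFiniteType.isLocallyNoetherian g
  haveI : IsLocallyNoetherian (CohB1.ProjSpace N k) := LocallyOfFiniteType.isLocallyNoetherian t
  haveI : IsIntegral (pullback t g) := inferInstance
  let P1 := pullback.fst t g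
  let q := pullback.snd t g
  haveI : IsLocallyNoetherian (pullback t g) := LocallyOfFiniteType.isLocallyNoetherian P1
  haveI : IsLocallyNoetherian X := LocallyOfFiniteType.isLocallyNoetherian f
  haveI : LocallyOfFinitePresentation f := inferInstance
  haveI : QuasiCompact t := inferInstance
  haveI : CompactSpace (CohB1.ProjSpace N k) := QuasiCompact.compactSpace_of_compactSpace t
  haveI : CompactSpace C := QuasiCompact.compactSpace_of_compactSpace g
  haveI : CompactSpace ↥(pullback t g) := QuasiCompact.compactSpace_of_compactSpace P1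
  haveI : IsNoetherian (pullback t g) := {}
  haveI : CompactSpace X := QuasiCompact.compactSpace_of_compactSpace f
  haveI : IsNoetherian X := {}
  let h := f ≫ q
  let η := genericPoint C
  -- X is reduced
  haveI : QuasiCompact (C.fromSpecResidueField η) := GrothLib.FlatClosure.quasiCompact_fromSpecResidueField η
  haveI : IsSchemeTheoreticallyDominant (C.fromSpecResidueField η) :=
    GrothLib.FlatClosure.isSchemeTheoreticallyDominant_fromSpecResidueField_genericPoint
  haveI hXred : IsReduced X := by
    haveI : IsReduced (h.fiber η) := hred η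
    haveI : IsReduced (pullback h (C.fromSpecResidueField η)) := hred η
    haveI : IsReduced (pullback (C.fromSpecResidueField η) h) :=
      isReduced_of_isOpenImmersion (pullbackSymmetry (C.fromSpecResidueField η) h).hom
    exact isReduced_of_flat_dominant h (C.fromSpecResidueField η)
  -- maximal points of X lie over the generic point
  have hmax : ∀ ζ : X, (∀ z, z ⤳ ζ → z = ζ) → f ζ = genericPoint ↥(pullback t g) := by
    intro ζ hζ
    have hη : h ζ = η := by
      obtain ⟨z, hz, hz'⟩ := Flat.generalizingMap h ((genericPoint_spec C).specializes (Set.mem_univ (h ζ)))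
      rw [hζ z hz] at hz'
      exact hz'
    obtain ⟨ζ', hζ'⟩ : ζ ∈ Set.range (h.fiberι η) := by rw [h.range_fiberι]; exact hη
    let φ : h.fiber η ⟶ q.fiber η :=
      pullback.lift (h.fiberι η ≫ f) (h.fiberToSpecResidueField η)
        ((Category.assoc _ _ _).trans pullback.condition)
    have hφ : φ ≫ q.fiberι η = h.fiberι η ≫ f := pullback.lift_fst _ _ _
    let Z : Set (h.fiber η) := closure {ζ'}
    have hZc : Z ∈ irreducibleComponents (h.fiber η) := by
      refine ⟨isIrreducible_singleton.closure, fun D hD hle => ?_⟩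
      have hgd := hD.isGenericPoint_genericPoint_closure
      have h1 : hD.genericPoint ⤳ ζ' := hgd.specializes (subset_closure (hle (subset_closure rfl)))
      have h2 : hD.genericPoint = ζ' := by
        refine (h.fiberι η).isEmbedding.injective ?_
        rw [hζ']
        exact hζ _ (hζ' ▸ h1.map (h.fiberι η).continuous)
      rw [h2] at hgd
      exact fun y hy => hgd.def.ge (subset_closure hy)
    have hZN : topologicalKrullDim Z = N := hdim η Z hZc
    let W : Set (q.fiber η) := closure {φ ζ'}
    have hmap : ∀ z : Z, φ z.1 ∈ W := fun z =>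
      specializes_iff_mem_closure.1 ((specializes_iff_mem_closure.2 z.2).map φ.continuous)
    haveI : QuasiSober Z :=
      (Topology.IsClosedEmbedding.subtypeVal isClosed_closure).quasiSober
    have hle : (N : WithBot ℕ∞) ≤ topologicalKrullDim W := by
      rw [← hZN]
      refine dim_le_of_discrete_fibres (fun z : Z => (⟨φ z.1, hmap z⟩ : W))
        ((φ.continuous.comp continuous_subtype_val).subtype_mk _) fun a b hab e => Subtype.ext ?_
      refine (h.fiberι η).isEmbedding.injective (eq_of_specializes_of_finite f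
        (((subtype_specializes_iff a b).1 hab).map (h.fiberι η).continuous) ?_)
      rw [← Scheme.Hom.comp_apply, ← Scheme.Hom.comp_apply, ← hφ, Scheme.Hom.comp_apply, Scheme.Hom.comp_apply]
      exact congrArg (q.fiberι η) (congrArg Subtype.val e)
    haveI : IsIntegral (q.fiber η) := inferInstance
    have hN : topologicalKrullDim (q.fiber η) = (N : WithBot ℕ∞) := by
      have := GrothLib.CurveLocus.topologicalKrullDim_of_isPullback t
        ((IsPullback.of_hasPullback q (C.fromSpecResidueField η)).paste_horiz (IsPullback.of_hasPullback t g))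
      exact this.trans (GrothLib.LineFlag12.dim_projSpace N)
    have hgen : φ ζ' = genericPoint ↥(q.fiber η) := by
      by_contra hne
      have huniv : closure ({genericPoint ↥(q.fiber η)} : Set (q.fiber η)) = Set.univ := (genericPoint_spec _).def
      have hlt := GrothLib.K0Rank22.dim_lt_of_subset_closure (X := q.fiber η)
        (x := genericPoint ↥(q.fiber η)) (C := W) isClosed_closure (by rw [huniv]; exact Set.subset_univ _)
        (fun hmem => hne ((specializes_iff_mem_closure.2 hmem).antisymm
          ((genericPoint_spec _).specializes trivial)).eq) N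
        ((topologicalKrullDim_subspace_le _ _).trans hN.le)
      exact absurd hle (not_le.2 hlt)
    rw [← hζ', ← Scheme.Hom.comp_apply, ← hφ, Scheme.Hom.comp_apply, hgen]
    have hq : q (genericPoint ↥(pullback t g)) = η := by
      haveI : GeometricallyIntegral q := inferInstance
      refine GrothLib.GenericSmooth.map_genericPoint_of_denseRange q ?_
      exact q.surjective.denseRange
    obtain ⟨w, hw⟩ : genericPoint ↥(pullback t g) ∈ Set.range (q.fiberι η) := by rw [q.range_fiberι]; exact hq
    rw [← hw]
    congr 1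
    refine ((genericPoint_spec ↥(q.fiber η)).specializes trivial).antisymm ?_ |>.eq
    refine (q.fiberι η).isEmbedding.isInducing.specializes_iff.1 ?_
    rw [hw]
    exact (genericPoint_spec _).specializes trivial
  -- regular target
  haveI : ∀ z : ↥(pullback t g), IsRegularLocalRing ((pullback t g).presheaf.stalk z) := fun z =>
    Groth.Agent.Lib.AlgMisc.GeomRegAt.isRegularLocalRing_stalk_of_mem_smoothLocus (P1 ≫ t) (x := z)
      (by rw [Scheme.Hom.smoothLocus_eq_top]; trivial)
  -- bad sets
  let V : X.Opens := ⟨{x | (f.stalkMap x).hom.Flat}, GrothLib.FibreFlat.isOpen_flat_stalkMap f⟩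
  let B : Set ↥(pullback t g) := f '' (V : Set X)ᶜ
  have hB : IsClosed B := f.isClosedMap _ V.isOpen.isClosed_compl
  haveI : IsProper P1 := inferInstance
  let B' : Set (CohB1.ProjSpace N k) := P1 '' B
  have hB' : IsClosed B' := P1.isClosedMap _ hB
  have hB'gen : genericPoint (CohB1.ProjSpace N k) ∉ B' := by
    rintro ⟨z, ⟨x, hx, rfl⟩, hzg⟩
    refine hx (flat_stalkMap_of_dim_le_one f hmax x ?_)
    obtain ⟨w, hw⟩ : f x ∈ Set.range (P1.fiberι (genericPoint (CohB1.ProjSpace N k))) := by
      rw [P1.range_fiberι]; exact hzg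
    have hfib : topologicalKrullDim (P1.fiber (genericPoint (CohB1.ProjSpace N k))) = 1 :=
      (GrothLib.CurveLocus.topologicalKrullDim_of_isPullback g
        ((IsPullback.of_hasPullback P1 ((CohB1.ProjSpace N k).fromSpecResidueField _)).paste_horiz
          (IsPullback.of_hasPullback t g).flip)).trans hg1
    haveI := GrothLib.PicPull.isIso_stalkMap_fiberι P1 w
    rw [← hw, ringKrullDim_eq_of_ringEquiv
      (asIso ((P1.fiberι (genericPoint (CohB1.ProjSpace N k))).stalkMap w)).commRingCatIsoToRingEquiv]
    exact (GrothLib.Ref1.ringKrullDim_stalk_le_topologicalKrullDim w).trans hfib.le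
  -- smooth locus
  haveI : CharZero (pullback t g).functionField := GrothLib.GenericSmooth.charZero_functionField (P1 ≫ t)
  let E : Set ↥(pullback t g) := f '' (f.smoothLocus : Set X)ᶜ
  have hE : IsClosed E := f.isClosedMap _ f.smoothLocus.isOpen.isClosed_compl
  have hEgen : genericPoint ↥(pullback t g) ∉ E := by
    rintro ⟨x, hx, hxg⟩
    obtain ⟨ζ, hζx, hζ⟩ := GrothLib.Unibranch.exists_maximal_generization x
    have h1 := hmax ζ hζ
    have h2 : ζ = x := eq_of_specializes_of_finite f hζx (h1.trans hxg.symm)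
    exact hx (h2 ▸ mem_smoothLocus_of_maximal f ζ hζ h1)
  let W : (pullback t g).Opens := ⟨Eᶜ, hE.isOpen_compl⟩
  have hPo : IsOpen (P1 '' (W : Set ↥(pullback t g))) := P1.isOpenMap _ W.isOpen
  let G : Set (CohB1.ProjSpace N k) := P1 '' (W : Set ↥(pullback t g)) ∩ B'ᶜ
  have hGne : G.Nonempty := by
    refine ⟨genericPoint (CohB1.ProjSpace N k), ?_, hB'gen⟩
    exact ((genericPoint_spec _).mem_open_set_iff hPo).2 ⟨_, trivial, _, hEgen, rfl⟩
  obtain ⟨p, hp, hpG⟩ := GrothLib.LinUniq27.exists_point_in t (hPo.inter hB'.isOpen_compl).isLocallyClosed hGne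
  refine ⟨p, hp, fun s hs1 hs2 => ?_⟩
  have hfin : IsFinite (pullback.snd f s) := inferInstance
  -- flatness
  let U : (pullback t g).Opens := ⟨Bᶜ, hB.isOpen_compl⟩
  have hsU : ∀ c, s c ∈ U := fun c hc => by
    refine (hpG (g c)).2 ⟨s c, hc, ?_⟩
    rw [← Scheme.Hom.comp_apply, hs1, Scheme.Hom.comp_apply]
  haveI : Flat (f ∣_ U) := by
    refine Flat.of_stalkMap _ fun y => ?_
    have h1 : (f.stalkMap y.1).hom.Flat := by
      by_contra hn
      exact y.2 ⟨y.1, hn, rfl⟩
    exact (RingHom.Flat.respectsIso.arrow_mk_iso_iff (morphismRestrictStalkMap f U y)).2 h1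
  have hflat : Flat (pullback.snd f s) :=
    of_restrict @Flat (IsPullback.of_hasPullback f s) U hsU inferInstance
  refine ⟨hfin, hflat, ?_⟩
  -- reducedness
  haveI := hflat
  let V₀ : C.Opens := s ⁻¹ᵁ W
  haveI : Nonempty (V₀ : Scheme.{u}) := by
    obtain ⟨z, hzW, hzp⟩ := (hpG (IsLocalRing.closedPoint k)).1
    have sqs : IsPullback s g P1 p := by
      refine IsPullback.of_right ?_ hs1 (IsPullback.of_hasPullback t g).flip
      rw [hs2, hp]
      exact IsPullback.of_horiz_isIso ⟨by simp⟩
    obtain ⟨w, hw, -⟩ := Scheme.Pullback.exists_preimage_pullback (f := P1) (g := p) z (IsLocalRing.closedPoint k) hzp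
    refine ⟨⟨sqs.isoPullback.inv w, ?_⟩⟩
    show s (sqs.isoPullback.inv w) ∈ W
    rw [← Scheme.Hom.comp_apply, sqs.isoPullback_inv_fst, hw]
    exact hzW
  haveI : IsDominant V₀.ι := ⟨by
    rw [DenseRange, Scheme.Opens.range_ι]
    exact V₀.isOpen.dense (Set.nonempty_coe_sort.1 ‹Nonempty (V₀ : Scheme.{u})›)⟩
  haveI : IsSchemeTheoreticallyDominant V₀.ι := IsSchemeTheoreticallyDominant.of_isDominant _
  haveI : Smooth (pullback.snd f s ∣_ V₀) := by
    refine of_restrict @Smooth
      ((isPullback_morphismRestrict (pullback.snd f s) V₀).flip.paste_horiz (IsPullback.of_hasPullback f s)) W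
      (fun x => x.2) ?_
    haveI : Smooth ((f ⁻¹ᵁ W).ι ≫ f) := by
      rw [← Scheme.Hom.smoothLocus_eq_top_iff, ← Scheme.Hom.preimage_smoothLocus_eq]
      refine TopologicalSpace.Opens.ext (Set.eq_univ_of_forall fun x => ?_)
      by_contra hn
      exact x.2 ⟨x.1, hn, rfl⟩
    haveI : Smooth ((f ∣_ W) ≫ W.ι) := by rw [morphismRestrict_ι]; infer_instance
    exact MorphismProperty.of_isPullback (P := @Smooth)
      (IsPullback.of_horiz_isIso_mono ⟨by simp⟩ : IsPullback (𝟙 _) (f ∣_ W) ((f ∣_ W) ≫ W.ι) W.ι) ‹Smooth ((f ∣_ W) ≫ W.ι)›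
  haveI : IsReduced ((pullback.snd f s ⁻¹ᵁ V₀ : (pullback f s).Opens) : Scheme.{u}) :=
    GrothLib.RedSmooth.isReduced_of_smooth (pullback.snd f s ∣_ V₀)
  haveI : IsReduced (pullback V₀.ι (pullback.snd f s)) :=
    isReduced_of_isOpenImmersion ((pullbackSymmetry V₀.ι (pullback.snd f s)).hom ≫
      (pullbackRestrictIsoRestrict (pullback.snd f s) V₀).hom)
  exact isReduced_of_flat_dominant (pullback.snd f s) V₀.ι

end GrothLib.ConstSec25
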